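import Cfsg.Agent.SchurTheory.Basic
import Cfsg.Prelude.Def_KGroupFacts

/-!
A universal central extension gives the Schur multiplier.
-/

set_option autoImplicit false

namespace CfsgLib.ChevMult

universe u v

/-- If a finite perfect central extension `θ : Δ → G` lifts to every finite stem extension of `G`,
the Schur multiplier of `G` is the kernel of `θ`. -/
theorem hasSchurMultiplier_of_lifts {Δ G : Type u} [Group Δ] [Group G] [Finite Δ] (θ : Δ →* G)
    (hs : Function.Surjective θ) (hc : θ.ker ≤ Subgroup.center Δ) (hperf : commutator Δ = ⊤)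
    (hlift : ∀ (E : Type u) [Group E] (π : E →* G), Function.Surjective π →
      π.ker ≤ Subgroup.center E → ∃ τ : Δ →* E, π.comp τ = θ)
    {A : Type v} [CommGroup A] (e : θ.ker ≃* A) : Cfsg.HasSchurMultiplier G A := by
  refine ⟨⟨Δ, inferInstance, inferInstance, θ, ⟨hs, hc, hperf ▸ le_top⟩, ⟨e⟩⟩, ?_⟩
  intro Γ _ _ σ hσ
  obtain ⟨τ, hτ⟩ := hlift Γ σ hσ.1 hσ.2.1
  have hτs : Function.Surjective τ := SchurTheory.lift_surjective σ hσ τ (hτ ▸ hs)
  have hmem : ∀ x : θ.ker, τ x ∈ σ.ker := fun x => by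
    rw [MonoidHom.mem_ker, ← MonoidHom.comp_apply, hτ]
    exact x.2
  refine ⟨((τ.comp θ.ker.subtype).codRestrict σ.ker hmem).comp e.symm.toMonoidHom, fun y => ?_⟩
  obtain ⟨x, hx⟩ := hτs y.1
  have hxk : x ∈ θ.ker := by
    rw [MonoidHom.mem_ker, ← hτ, MonoidHom.comp_apply, hx]
    exact y.2
  exact ⟨e ⟨x, hxk⟩, Subtype.ext (show τ (e.symm (e ⟨x, hxk⟩) : Δ) = y.1 by rw [e.symm_apply_apply]; exact hx)⟩

/-- The same, for a finite `G` and a finite kernel of prime or trivial order. -/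
theorem hasCyclicSchurMultiplier_of_lifts {Δ G : Type u} [Group Δ] [Group G] [Finite Δ] (θ : Δ →* G)
    (hs : Function.Surjective θ) (hc : θ.ker ≤ Subgroup.center Δ) (hperf : commutator Δ = ⊤)
    (hlift : ∀ (E : Type u) [Group E] (π : E →* G), Function.Surjective π →
      π.ker ≤ Subgroup.center E → ∃ τ : Δ →* E, π.comp τ = θ)
    [IsCyclic θ.ker] {n : ℕ} (hn : Nat.card θ.ker = n) : Cfsg.HasCyclicSchurMultiplier G n := by
  haveI : NeZero n := ⟨hn ▸ Nat.card_pos.ne'⟩
  exact hasSchurMultiplier_of_lifts θ hs hc hperf hlift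
    (mulEquivOfCyclicCardEq (by rw [hn, Nat.card_congr Multiplicative.toAdd, Nat.card_zmod]))

end CfsgLib.ChevMult
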