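import Cfsg.Agent.ChevMult.Glue
import Cfsg.Agent.ChevCollect.LiftFinite
import Cfsg.Agent.ChevCollect.Presented
import Cfsg.Agent.SteinbergPres.Main
import Cfsg.Agent.S2395

/-!
The Schur multiplier of a Chevalley group is the centre of its presented group.
-/

set_option autoImplicit false

namespace CfsgLib.ChevMult

open Cfsg.Lie

universe u

variable {K : Type u} [Field K] {D : ChevalleyDatum}

theorem finite_hBar [Finite K] (hP : SteinbergPres.GoodPres D) :
    Finite (SteinbergPres.hBar (K := K) hP.toGoodWeyl) := by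
  rw [SteinbergPres.hBar_eq_range hP]
  exact Finite.of_surjective _ (SteinbergPres.hbTor (K := K) hP).rangeRestrict_surjective

/-- The presented group is finite and perfect, and lifts to every central extension. -/
theorem exists_universal [Finite K] (hD : D ∈ [chevG2, chevB2, chevD4, chevF4, chevE6, chevE7, chevE8])
    (hok : ChevCollect.LiftOK D (Nat.card K)) :
    ∃ θ : D.SteinbergGroup K →* ↥(D.group K), Finite (D.SteinbergGroup K) ∧ Function.Surjective θ ∧
      θ.ker = Subgroup.center (D.SteinbergGroup K) ∧ commutator (D.SteinbergGroup K) = ⊤ ∧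
      ∀ (E : Type u) [Group E] (π : E →* ↥(D.group K)), Function.Surjective π →
        π.ker ≤ Subgroup.center E → ∃ τ : D.SteinbergGroup K →* E, π.comp τ = θ := by
  have hx : D ∈ [chevB2, chevG2] → ∃ x : K, x ≠ 0 ∧ x ≠ 1 := by
    intro hm
    have hq : 3 ≤ Nat.card K := by
      simp only [List.mem_cons, List.not_mem_nil, or_false] at hm
      rcases hok with h | ⟨h, -⟩ | ⟨h, -⟩ | ⟨h, -⟩
      · exfalso
        simp only [List.mem_cons, List.not_mem_nil, or_false] at h
        rcases hm with rfl | rfl <;> rcases h with h | h | h <;>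
          exact absurd (congrArg ChevalleyDatum.rank h) (by decide +kernel)
      all_goals omega
    by_contra hcon
    push Not at hcon
    have : Function.Surjective (![0, 1] : Fin 2 → K) := fun x => by
      by_cases hx : x = 0
      · exact ⟨0, hx.symm⟩
      · exact ⟨1, (hcon x hx).symm⟩
    have := Nat.card_le_card_of_surjective _ this
    rw [Nat.card_fin] at this
    omega
  have hperf : commutator (D.SteinbergCover K) = ⊤ := Cfsg.Agent.S2395.result D hD hx
  obtain ⟨W, hW⟩ := ChevCollect.exists_wit hD
  obtain ⟨e, -⟩ := ChevCollect.exists_cover_equiv (K := K) D hW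
  obtain ⟨θ, hs, hk, hθ⟩ := SteinbergPres.exists_surjection (K := K) hD
  have hP := SteinbergPres.goodPres_of_mem hD
  obtain ⟨C, M, R, h⟩ := Chevalley.exists_rootGood_of_mem hD
  haveI : Finite θ.ker := by
    haveI := finite_hBar (K := K) hP
    refine Finite.of_injective (β := SteinbergPres.hBar (K := K) hP.toGoodWeyl)
      (fun g => ⟨g.1, SteinbergPres.mem_hBar_of_map_eq_one hP h (SteinbergPres.map_xb hP hθ) ?_⟩) ?_
    · rw [MonoidHom.comp_apply, MonoidHom.mem_ker.1 g.2, map_one]
    · exact fun a b hab => Subtype.ext (congrArg Subtype.val hab :)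
  haveI : Finite (D.SteinbergGroup K ⧸ θ.ker) :=
    Finite.of_equiv _ (QuotientGroup.quotientKerEquivOfSurjective θ hs).symm.toEquiv
  have hfin : Finite (D.SteinbergGroup K) :=
    Finite.of_subgroup_quotient θ.ker
  refine ⟨θ, hfin, hs, hk, ?_, fun E _ π hπ hc => ?_⟩
  · rw [eq_top_iff, ← MonoidHom.range_eq_top.2 (show Function.Surjective e.toMonoidHom from e.surjective), MonoidHom.range_eq_map, ← hperf,
      commutator_def, commutator_def, Subgroup.map_commutator]
    exact Subgroup.commutator_mono le_top le_top
  · obtain ⟨τ, hτ, -⟩ := ChevCollect.existsUnique_lift_finite hok hperf π hπ hc (θ.comp e.toMonoidHom)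
    refine ⟨τ.comp e.symm.toMonoidHom, ?_⟩
    rw [← MonoidHom.comp_assoc, hτ, MonoidHom.comp_assoc]
    ext g
    simp

/-- The multiplier is cyclic of the order of the centre, when that centre is cyclic. -/
theorem hasCyclicSchurMultiplier [Finite K]
    (hD : D ∈ [chevG2, chevB2, chevD4, chevF4, chevE6, chevE7, chevE8])
    (hok : ChevCollect.LiftOK D (Nat.card K)) {n : ℕ}
    (hn : Nat.card (Subgroup.center (D.SteinbergGroup K)) = n)
    (hcyc : IsCyclic (Subgroup.center (D.SteinbergGroup K))) :
    Cfsg.HasCyclicSchurMultiplier ↥(D.group K) n := by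
  obtain ⟨θ, hfin, hs, hk, hp, hl⟩ := exists_universal (K := K) hD hok
  haveI : IsCyclic θ.ker := hk ▸ hcyc
  exact hasCyclicSchurMultiplier_of_lifts θ hs hk.le hp hl (hk ▸ hn)

/-- A group whose order divides two or three is cyclic. -/
theorem isCyclic_of_card_gcd {A : Type*} [Group A] {p k : ℕ} (hp : p.Prime)
    (hA : Nat.card A = Nat.gcd p k) : IsCyclic A := by
  haveI := Fact.mk hp
  rcases (Nat.dvd_prime hp).1 (Nat.gcd_dvd_left p k) with h | h
  · haveI := (Nat.card_eq_one_iff_unique.1 (hA.trans h)).1
    infer_instance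
  · exact isCyclic_of_prime_card (hA.trans h)

end CfsgLib.ChevMult
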